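import Mathlib.CategoryTheory.Preadditive.AdditiveFunctor
import Mathlib.CategoryTheory.Abelian.Basic
import Mathlib.CategoryTheory.Idempotents.Basic
import Mathlib.Algebra.BigOperators.Fin
import Mathlib.Data.Fintype.BigOperators

/-!
# Decompositions into copies of one object
-/

set_option autoImplicit false

open CategoryTheory CategoryTheory.Limits

noncomputable section

namespace Groth.Agent.H28.EndTriv

universe v v' u u'

variable {C : Type u} [Category.{v} C] [Preadditive C] {D : Type u'} [Category.{v'} D] [Preadditive D]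

/-- `M` is the sum of copies of `V` indexed by `ι`. -/
structure Decomp (ι : Type) [Fintype ι] [DecidableEq ι] (V M : C) where
  /-- The projections. -/
  p : ι → (M ⟶ V)
  /-- The inclusions. -/
  i : ι → (V ⟶ M)
  orth : ∀ j l, i j ≫ p l = if j = l then 𝟙 V else 0
  total : ∑ j, p j ≫ i j = 𝟙 M

variable {ι κ : Type} [Fintype ι] [DecidableEq ι] [Fintype κ] [DecidableEq κ] {V W M M' : C}

/-- Transport along an isomorphism of the sum. -/
def Decomp.ofIso (d : Decomp ι V M) (e : M ≅ M') : Decomp ι V M' where
  p j := e.inv ≫ d.p j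
  i j := d.i j ≫ e.hom
  orth j l := by simp [d.orth]
  total := by
    rw [Finset.sum_congr rfl fun j _ => (by simp : (e.inv ≫ d.p j) ≫ d.i j ≫ e.hom = e.inv ≫ (d.p j ≫ d.i j) ≫ e.hom),
      ← Preadditive.comp_sum, ← Preadditive.sum_comp, d.total, Category.id_comp, e.inv_hom_id]

/-- Transport along an isomorphism of the summand. -/
def Decomp.ofIsoSummand (d : Decomp ι V M) (e : V ≅ W) : Decomp ι W M where
  p j := d.p j ≫ e.hom
  i j := e.inv ≫ d.i j
  orth j l := by
    rw [Category.assoc, ← Category.assoc (d.i j), d.orth]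
    split <;> simp
  total := by
    simp only [Category.assoc, e.hom_inv_id_assoc, d.total]

/-- Reindexing. -/
def Decomp.reindex (d : Decomp ι V M) (e : ι ≃ κ) : Decomp κ V M where
  p j := d.p (e.symm j)
  i j := d.i (e.symm j)
  orth j l := by rw [d.orth]; simp [e.symm.injective.eq_iff]
  total := (e.symm.sum_comp fun j => d.p j ≫ d.i j).trans d.total

/-- Sums of sums. -/
def Decomp.comp (d : Decomp ι V M) (d' : Decomp κ W V) : Decomp (ι × κ) W M where
  p x := d.p x.1 ≫ d'.p x.2
  i x := d'.i x.2 ≫ d.i x.1
  orth x y := by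
    obtain ⟨a, b⟩ := x
    obtain ⟨a', b'⟩ := y
    rw [Category.assoc, ← Category.assoc (d.i a), d.orth]
    by_cases h : a = a'
    · subst h
      rw [if_pos rfl, Category.id_comp, d'.orth]
      simp
    · simp [h]
  total := by
    rw [Fintype.sum_prod_type, ← d.total]
    refine Finset.sum_congr rfl fun a _ => ?_
    rw [Finset.sum_congr rfl fun b _ => (by simp :
      (d.p a ≫ d'.p b) ≫ d'.i b ≫ d.i a = d.p a ≫ (d'.p b ≫ d'.i b) ≫ d.i a), ← Preadditive.comp_sum,
      ← Preadditive.sum_comp, d'.total, Category.id_comp]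

/-- Additive functors preserve decompositions. -/
def Decomp.map (d : Decomp ι V M) (F : C ⥤ D) [F.Additive] : Decomp ι (F.obj V) (F.obj M) where
  p j := F.map (d.p j)
  i j := F.map (d.i j)
  orth j l := by rw [← F.map_comp, d.orth]; split <;> simp
  total := by simp only [← F.map_comp]; rw [← F.map_sum, d.total, F.map_id]

/-- Two decompositions of the same shape give isomorphic objects. -/
def Decomp.iso (d : Decomp ι V M) (d' : Decomp ι V M') : M ≅ M' where
  hom := ∑ j, d.p j ≫ d'.i j
  inv := ∑ j, d'.p j ≫ d.i j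
  hom_inv_id := by
    rw [Preadditive.sum_comp, ← d.total]
    refine Finset.sum_congr rfl fun j _ => ?_
    rw [Category.assoc, Preadditive.comp_sum, Finset.sum_eq_single j (fun b _ hb => by
      rw [← Category.assoc, d'.orth, if_neg (Ne.symm hb), zero_comp]) (fun h => absurd (Finset.mem_univ j) h),
      ← Category.assoc (d'.i j), d'.orth, if_pos rfl, Category.id_comp]
  inv_hom_id := by
    rw [Preadditive.sum_comp, ← d'.total]
    refine Finset.sum_congr rfl fun j _ => ?_
    rw [Category.assoc, Preadditive.comp_sum, Finset.sum_eq_single j (fun b _ hb => by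
      rw [← Category.assoc, d.orth, if_neg (Ne.symm hb), zero_comp]) (fun h => absurd (Finset.mem_univ j) h),
      ← Category.assoc (d.i j), d.orth, if_pos rfl, Category.id_comp]

/-- The coproduct of copies of an object. -/
def Decomp.sigma (V : C) [HasCoproduct fun _ : ι => V] : Decomp ι V (∐ fun _ : ι => V) where
  p j := Sigma.desc fun l => if l = j then 𝟙 V else 0
  i j := Sigma.ι (fun _ : ι => V) j
  orth j l := by simp
  total := by
    refine Sigma.hom_ext _ _ fun l => ?_
    rw [Preadditive.comp_sum, Category.comp_id, Finset.sum_eq_single l (fun b _ hb => by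
      rw [Sigma.ι_desc_assoc, if_neg (Ne.symm hb), zero_comp]) (fun h => absurd (Finset.mem_univ l) h),
      Sigma.ι_desc_assoc, if_pos rfl, Category.id_comp]

/-- A system of matrix units in the endomorphisms splits off a decomposition. -/
theorem exists_decomp_of_units {C : Type u} [Category.{v} C] [Preadditive C] [IsIdempotentComplete C] {M : C}
    {r : ℕ} (j₀ : Fin r) (e : Fin r → Fin r → (M ⟶ M))
    (hmul : ∀ a b c d, e a b ≫ e c d = if b = c then e a d else 0) (htot : ∑ a, e a a = 𝟙 M) :
    ∃ (L : C) (_ : Decomp (Fin r) L M), True := by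
  obtain ⟨L, i, p, hip, hpi⟩ := IsIdempotentComplete.idempotents_split M (e j₀ j₀) (by rw [hmul, if_pos rfl])
  refine ⟨L, ⟨fun a => e a j₀ ≫ p, fun a => i ≫ e j₀ a, fun a b => ?_, ?_⟩, trivial⟩
  · rw [Category.assoc, ← Category.assoc (e j₀ a), hmul]
    by_cases h : a = b
    · subst h
      rw [if_pos rfl, if_pos rfl, ← hpi, Category.assoc, hip, Category.comp_id, hip]
    · rw [if_neg h, if_neg h, zero_comp, comp_zero]
  · refine Eq.trans (Finset.sum_congr rfl fun a _ => ?_) htot
    rw [Category.assoc, ← Category.assoc p, hpi, hmul, if_pos rfl, hmul, if_pos rfl]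

end Groth.Agent.H28.EndTriv
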