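import Groth.Agent.H28.EndTriv.Decomp
import Groth.Agent.SheafHomY.Dual
import Groth.Agent.H23.Chern.Dual
import Groth.Agent.H28.KPn
import Groth.Agent.H28.LineTwist
import Groth.Agent.P1Const.Points
import Groth.Agent.Nakai.Section
import Groth.Agent.InvX.GenLocus
import Groth.Agent.InvX.Tensor
import Groth.Agent.ConsPropLib.FibreLocFreeRank
import Groth.Agent.UnivThick.Lci
import Groth.Agent.SeesawX.Crit
import Groth.Agent.H23.Chern.CoFrame
import Mathlib.AlgebraicGeometry.Morphisms.Proper
import Mathlib.FieldTheory.IsAlgClosed.Basic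

/-!
# Bundles with trivial endomorphism sheaf

On a proper variety over an algebraically closed field, a bundle `E` with `E ⊗ E^∨` free is a sum of copies of one
line bundle.
-/

set_option autoImplicit false
set_option linter.style.haveILetI false
set_option linter.unusedSectionVars false
set_option backward.isDefEq.respectTransparency false
set_option backward.isDefEq.respectTransparency.types false
set_option maxHeartbeats 1000000

universe u

open CategoryTheory CategoryTheory.Limits AlgebraicGeometry TopologicalSpace Opposite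

noncomputable section

namespace Groth.Agent.H28.EndTriv

open Groth.Agent SheafHomX SheafHomY

/-- Post-composition with the image of a morphism is transported by natural isomorphisms. -/
theorem bijective_of_natIso {C : Type*} [Category C] {D : Type*} [Category D] {F G : C ⥤ D} (η : F ≅ G) {P : D}
    {A B : C} (v : A ⟶ B) (h : Function.Bijective fun x : P ⟶ G.obj A => x ≫ G.map v) :
    Function.Bijective fun x : P ⟶ F.obj A => x ≫ F.map v := by
  refine ⟨fun x y hxy => ?_, fun z => ?_⟩
  · refine (cancel_mono (η.hom.app A)).1 (h.1 ?_)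
    show (x ≫ η.hom.app A) ≫ G.map v = (y ≫ η.hom.app A) ≫ G.map v
    rw [Category.assoc, Category.assoc, ← η.hom.naturality, ← Category.assoc, ← Category.assoc]
    exact congrArg (· ≫ η.hom.app B) hxy
  · obtain ⟨x, hx⟩ := h.2 (z ≫ η.hom.app B)
    refine ⟨x ≫ η.inv.app A, ?_⟩
    show (x ≫ η.inv.app A) ≫ F.map v = z
    rw [Category.assoc, ← η.inv.naturality, ← Category.assoc]
    refine (congrArg (· ≫ η.inv.app B) hx).trans ?_
    rw [Category.assoc, η.hom_inv_id_app, Category.comp_id]

/-- A decomposition of modules is a product decomposition. -/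
def piEquiv {R : Type u} [CommRing R] {ι : Type} [Fintype ι] [DecidableEq ι] {V M : ModuleCat.{u} R}
    (d : Decomp ι V M) : M ≃ₗ[R] (ι → V) :=
  LinearEquiv.ofLinear (LinearMap.pi fun a => (d.p a).hom) (∑ a, (d.i a).hom ∘ₗ LinearMap.proj a)
    (by
      refine LinearMap.ext fun c => funext fun b => ?_
      simp only [LinearMap.comp_apply, LinearMap.pi_apply, LinearMap.sum_apply, LinearMap.proj_apply, map_sum,
        LinearMap.id_coe, id_eq]
      rw [Finset.sum_eq_single b]
      · exact congr(ModuleCat.Hom.hom $(d.orth b b) (c b)).trans (by simp)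
      · intro a _ hab
        exact congr(ModuleCat.Hom.hom $(d.orth a b) (c a)).trans (by simp [hab])
      · simp)
    (by
      refine LinearMap.ext fun m => ?_
      simp only [LinearMap.comp_apply, LinearMap.pi_apply, LinearMap.sum_apply, LinearMap.proj_apply, LinearMap.id_coe, id_eq]
      refine Eq.trans ?_ (congr(ModuleCat.Hom.hom $(d.total) m))
      simp [ModuleCat.hom_sum])

variable {X : Scheme.{u}}

local notation "TB" => DCoh.tensorBi (X := X)

/-- `(- ⊗ E) ⊗ E^∨ ≅ - ⊗ (E ⊗ E^∨)`. -/
def assocIso (E D : X.Modules) :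
    ((TB).flip.obj E) ⋙ ((TB).flip.obj D) ≅ (TB).flip.obj (((TB).obj E).obj D) :=
  NatIso.ofComponents (fun V => (((KFlatLib.tensorAssocSch X).app V).app E).app D) fun {V V'} f => by
    have h := congr_app (congr_app ((KFlatLib.tensorAssocSch X).hom.naturality f) E) D
    simp only [NatTrans.comp_app] at h
    exact h

/-- Post-composition and functors which are finite sums of the identity. -/
theorem bijective_of_sum {C : Type*} [Category C] [Preadditive C] {T R : C ⥤ C} (ρ : R ≅ 𝟭 C) {ι : Type} [Fintype ι]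
    (pr : ι → (T ⟶ R)) (inc : ι → (R ⟶ T)) (htot : ∀ W, ∑ j, (pr j).app W ≫ (inc j).app W = 𝟙 (T.obj W))
    {P A B : C} (v : A ⟶ B) (h : Function.Bijective fun x : P ⟶ A => x ≫ v) :
    Function.Bijective fun x : P ⟶ T.obj A => x ≫ T.map v := by
  refine ⟨fun x y hxy => ?_, fun z => ?_⟩
  · have key : ∀ j, x ≫ (pr j).app A ≫ ρ.hom.app A = y ≫ (pr j).app A ≫ ρ.hom.app A := fun j => by
      refine h.1 ?_
      have nat : ((pr j).app A ≫ ρ.hom.app A) ≫ v = T.map v ≫ (pr j).app B ≫ ρ.hom.app B := by
        rw [Category.assoc, show ρ.hom.app A ≫ v = R.map v ≫ ρ.hom.app B from (ρ.hom.naturality v).symm,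
          ← (pr j).naturality_assoc]
      show (x ≫ (pr j).app A ≫ ρ.hom.app A) ≫ v = (y ≫ (pr j).app A ≫ ρ.hom.app A) ≫ v
      rw [Category.assoc, Category.assoc y, nat]
      exact (Category.assoc _ _ _).symm.trans ((congrArg (· ≫ _) hxy).trans (Category.assoc _ _ _))
    rw [← Category.comp_id x, ← Category.comp_id y, ← htot A, Preadditive.comp_sum, Preadditive.comp_sum]
    refine Finset.sum_congr rfl fun j _ => ?_
    rw [← Category.assoc, ← Category.assoc y]
    refine congrArg (· ≫ (inc j).app A) ((cancel_mono (ρ.hom.app A)).1 ?_)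
    rw [Category.assoc, Category.assoc]
    exact key j
  · choose c hc using fun j => h.2 (z ≫ (pr j).app B ≫ ρ.hom.app B)
    refine ⟨∑ j, c j ≫ ρ.inv.app A ≫ (inc j).app A, ?_⟩
    show (∑ j, c j ≫ ρ.inv.app A ≫ (inc j).app A) ≫ T.map v = z
    rw [Preadditive.sum_comp]
    conv_rhs => rw [← Category.comp_id z, ← htot B, Preadditive.comp_sum]
    refine Finset.sum_congr rfl fun j _ => ?_
    have nat : ρ.inv.app A ≫ (inc j).app A ≫ T.map v = v ≫ ρ.inv.app B ≫ (inc j).app B := by
      rw [← (inc j).naturality, ← Category.assoc]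
      exact (congrArg (· ≫ _) (ρ.inv.naturality v).symm).trans (Category.assoc _ _ _)
    rw [Category.assoc, Category.assoc, nat, ← Category.assoc]
    refine (congrArg (· ≫ _) (hc j)).trans ?_
    rw [Category.assoc, Category.assoc, ρ.hom_inv_id_app_assoc]

/-- The case of a bifunctor evaluated at a sum of copies of an object with a unit isomorphism. -/
theorem bijective_flip {C : Type*} [Category C] [Preadditive C] (F : C ⥤ C ⥤ C) (hF : ∀ W, (F.obj W).Additive)
    {O M : C} (ρ : F.flip.obj O ≅ 𝟭 C) {n : ℕ} (d : Decomp (Fin n) O M) {P A B : C} (v : A ⟶ B)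
    (h : Function.Bijective fun x : P ⟶ A => x ≫ v) :
    Function.Bijective fun x : P ⟶ (F.flip.obj M).obj A => x ≫ (F.flip.obj M).map v := by
  refine bijective_of_sum ρ (fun j => F.flip.map (d.p j)) (fun j => F.flip.map (d.i j)) (fun W => ?_) v h
  haveI := hF W
  exact (d.map (F.obj W)).total

/-- Tensoring with a free module. -/
theorem bijective_ten_comp {M : X.Modules} {N : ℕ} (eM : M ≅ FlatMod.freeMod X N) {A B : X.Modules} (v : A ⟶ B)
    (h : Function.Bijective fun x : Coh.structureModule X ⟶ A => x ≫ v) :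
    Function.Bijective fun x : Coh.structureModule X ⟶ (ten M).obj A => x ≫ (ten M).map v := by
  have hF : ∀ W, ((TB).obj W).Additive := fun W => inferInstanceAs (DCoh.tensorBi.obj W).Additive
  let d : Decomp (Fin N) (Coh.structureModule X) M := (Decomp.sigma (Coh.structureModule X)).ofIso eM.symm
  let ρ : (TB).flip.obj (Coh.structureModule X) ≅ 𝟭 X.Modules := KFlatLib.tensorStructureIso X
  exact bijective_flip (DCoh.tensorBi (X := X)) hF ρ d v h

/-- Homomorphisms into `- ⊗ E` when `E ⊗ E^∨` is free. -/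
theorem bijective_hom_comp {E : X.Modules} (hE : FlatMod.IsFinLocFree E) {N : ℕ}
    (eM : ((TB).obj E).obj (SheafHomY.dual E) ≅ FlatMod.freeMod X N) {A B : X.Modules} (v : A ⟶ B)
    (h : Function.Bijective fun x : Coh.structureModule X ⟶ A => x ≫ v) :
    Function.Bijective fun x : E ⟶ (ten E).obj A => x ≫ (ten E).map v := by
  have h1 := bijective_ten_comp eM v h
  have h2 := bijective_of_natIso (Functor.isoWhiskerLeft (ten E) (thetaIso hE).symm ≪≫ assocIso E (SheafHomY.dual E)) v h1
  refine ⟨fun x y hxy => (ev E _).symm.injective (h2.1 ((ev E _).injective ?_)), fun z => ?_⟩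
  · show ev E _ ((ev E _).symm x ≫ (hom E).map ((ten E).map v)) =
      ev E _ ((ev E _).symm y ≫ (hom E).map ((ten E).map v))
    rw [ev_naturality, ev_naturality, AddEquiv.apply_symm_apply, AddEquiv.apply_symm_apply]
    exact hxy
  · obtain ⟨x, hx⟩ := h2.2 ((ev E _).symm z)
    refine ⟨ev E _ x, ?_⟩
    have h3 := congrArg (ev E _) hx
    rw [AddEquiv.apply_symm_apply] at h3
    exact (ev_naturality x _).symm.trans h3

variable {k : Type u} [Field k] [IsAlgClosed k] [X.Over (Spec (CommRingCat.of k))] [IsIntegral X]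
  [IsProper (X ↘ Spec (CommRingCat.of k))]

variable (k) in
include k in
/-- An integral proper scheme over an algebraically closed field has only constant functions. -/
theorem bijective_appTop : Function.Bijective (X ↘ Spec (CommRingCat.of k)).appTop := by
  let f := X ↘ Spec (CommRingCat.of k)
  let φ : CommRingCat.of k ⟶ Γ(X, ⊤) := (Scheme.ΓSpecIso _).inv ≫ f.appTop
  have hint : φ.hom.IsIntegral := (RingHom.isIntegral_of_surjective _
      (ConcreteCategory.bijective_of_isIso (Scheme.ΓSpecIso (CommRingCat.of k)).inv).2).trans _ _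
      (isIntegral_appTop_of_universallyClosed f)
  haveI : Nonempty (⊤ : X.Opens) := ⟨⟨Classical.arbitrary X, trivial⟩⟩
  algebraize [φ.hom]
  have hb : Function.Bijective φ.hom := IsAlgClosed.algebraMap_bijective_of_isIntegral
  have hf : f.appTop = (Scheme.ΓSpecIso _).hom ≫ φ := by simp [φ]
  show Function.Bijective f.appTop
  rw [hf]
  exact hb.comp (ConcreteCategory.bijective_of_isIso (Scheme.ΓSpecIso (CommRingCat.of k)).hom)

theorem endO_mul (φ ψ : Coh.structureModule X ⟶ Coh.structureModule X) :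
    (show Γ(X, ⊤) from InvX.one (φ ≫ ψ)) = (show Γ(X, ⊤) from InvX.one φ) * (show Γ(X, ⊤) from InvX.one ψ) := by
  show ψ.app ⊤ (φ.app ⊤ (1 : Γ(X, ⊤))) = _
  refine (InvX.app_eq_smul ψ (W := ⊤) (show Γ(X, ⊤) from InvX.one φ)).trans ?_
  rw [AModX.res_self]
  rfl

theorem one_injective {M : X.Modules} {φ ψ : Coh.structureModule X ⟶ M} (h : InvX.one φ = InvX.one ψ) : φ = ψ :=
  Scheme.Modules.hom_ext _ _ fun W => AddCommGrpCat.hom_ext (AddMonoidHom.ext fun r => by
    refine (InvX.app_eq_smul φ (W := W) r).trans ?_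
    rw [h]
    exact (InvX.app_eq_smul ψ (W := W) r).symm)

variable (k) in
include k in
/-- A nonzero endomorphism of the structure sheaf is invertible. -/
theorem isIso_endO (φ : Coh.structureModule X ⟶ Coh.structureModule X) (hφ : φ ≠ 0) : IsIso φ := by
  have hb := bijective_appTop k (X := X)
  obtain ⟨c, hc⟩ := hb.2 (show Γ(X, ⊤) from InvX.one φ)
  let e := (Scheme.ΓSpecIso (CommRingCat.of k))
  have hc0 : e.hom c ≠ 0 := fun h => hφ (one_injective (by
    have h0 : c = 0 := (ConcreteCategory.bijective_of_isIso e.hom).1 (h.trans (map_zero _).symm)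
    rw [← show (X ↘ Spec (CommRingCat.of k)).appTop c = InvX.one φ from hc, h0]
    exact (map_zero _).trans (by rfl)))
  obtain ⟨d, hd⟩ : ∃ d : Γ(Spec (CommRingCat.of k), ⊤), c * d = 1 := ⟨e.inv ((e.hom c)⁻¹ : k), by
    apply (ConcreteCategory.bijective_of_isIso e.hom).1
    rw [map_mul, map_one, Iso.inv_hom_id_apply]
    exact mul_inv_cancel₀ hc0⟩
  let ψ := InvX.ofSect (M := Coh.structureModule X) ((X ↘ Spec (CommRingCat.of k)).appTop d)
  have h1 : ∀ a b : Γ(Spec (CommRingCat.of k), ⊤), a * b = 1 →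
      ∀ f g : Coh.structureModule X ⟶ Coh.structureModule X,
      (show Γ(X, ⊤) from InvX.one f) = (X ↘ Spec (CommRingCat.of k)).appTop a →
      (show Γ(X, ⊤) from InvX.one g) = (X ↘ Spec (CommRingCat.of k)).appTop b → f ≫ g = 𝟙 _ :=
    fun a b hab f g hf hg => one_injective (by
      refine (endO_mul f g).trans ?_
      rw [hf, hg, ← map_mul, hab, map_one]
      rfl)
  exact ⟨ψ, h1 c d hd φ ψ hc.symm (InvX.one_ofSect _), h1 d c ((mul_comm d c).trans hd) ψ φ (InvX.one_ofSect _) hc.symm⟩

variable (k) in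
/-- A rational point. -/
theorem exists_point : ∃ x : Spec (CommRingCat.of k) ⟶ X, x ≫ (X ↘ Spec (CommRingCat.of k)) = 𝟙 _ := by
  haveI : CompactSpace X := QuasiCompact.compactSpace_of_compactSpace (X ↘ Spec (CommRingCat.of k))
  obtain ⟨z, -, hz⟩ := IsClosed.exists_closed_singleton (S := (Set.univ : Set X)) isClosed_univ Set.univ_nonempty
  exact ⟨pointOfClosedPoint (X ↘ Spec (CommRingCat.of k)) z hz, pointOfClosedPoint_comp _ z hz⟩

variable (k) in
include k in
/-- Functions on `X` are the values at a rational point. -/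
theorem bijective_comp_unit (x : Spec (CommRingCat.of k) ⟶ X) (hx : x ≫ (X ↘ Spec (CommRingCat.of k)) = 𝟙 _) :
    Function.Bijective fun φ : Coh.structureModule X ⟶ Coh.structureModule X =>
      φ ≫ (Scheme.Modules.pullbackPushforwardAdjunction x).unit.app (Coh.structureModule X) := by
  let adj := Scheme.Modules.pullbackPushforwardAdjunction x
  let P := Scheme.Modules.pullback x
  have hkey : ∀ φ : Coh.structureModule X ⟶ Coh.structureModule X,
      (adj.homEquiv _ _).symm (φ ≫ adj.unit.app (Coh.structureModule X)) = P.map φ := fun φ => by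
    rw [Equiv.symm_apply_eq, Adjunction.homEquiv_unit]
    exact adj.unit.naturality φ
  have hsurj : Function.Surjective fun φ : Coh.structureModule X ⟶ Coh.structureModule X => P.map φ := by
    let g := X ↘ Spec (CommRingCat.of k)
    let a := H23.Chern.pullUnit g
    let nat := Scheme.Modules.pullbackComp x g ≪≫ Scheme.Modules.pullbackCongr hx ≪≫ Scheme.Modules.pullbackId _
    intro ψ
    let c := (nat.app (Coh.structureModule (Spec (CommRingCat.of k))))
    let ψ' := c.inv ≫ P.map a.hom ≫ ψ ≫ P.map a.inv ≫ c.hom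
    refine ⟨a.inv ≫ (Scheme.Modules.pullback g).map ψ' ≫ a.hom, ?_⟩
    have hn : P.map ((Scheme.Modules.pullback g).map ψ') = c.hom ≫ ψ' ≫ c.inv := by
      rw [← Category.assoc, Iso.eq_comp_inv]
      exact nat.hom.naturality ψ'
    show P.map _ = ψ
    rw [P.map_comp, P.map_comp, hn]
    simp only [ψ', Category.assoc, Iso.hom_inv_id_assoc, Iso.hom_inv_id, Category.comp_id]
    rw [← P.map_comp_assoc, a.inv_hom_id, P.map_id, Category.id_comp, ← P.map_comp, a.inv_hom_id, P.map_id,
      Category.comp_id]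
  have hne : ¬ IsZero (P.obj (Coh.structureModule X)) := by
    intro hz
    have h0 : IsZero (Coh.structureModule (Spec (CommRingCat.of k))) := hz.of_iso (H23.Chern.pullUnit x).symm
    have h2 := congr(($((IsZero.iff_id_eq_zero _).1 h0)).app ⊤ (1 : Γ(Spec (CommRingCat.of k), ⊤)))
    exact one_ne_zero (α := k) (by
      refine (map_one (Scheme.ΓSpecIso (CommRingCat.of k)).hom.hom).symm.trans ?_
      rw [show (1 : Γ(Spec (CommRingCat.of k), ⊤)) = 0 from h2, map_zero])
  have hinj : Function.Injective fun φ : Coh.structureModule X ⟶ Coh.structureModule X => P.map φ := by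
    intro φ ψ h
    by_contra hne'
    haveI := isIso_endO k (φ - ψ) (sub_ne_zero.2 hne')
    have h0 : P.map (φ - ψ) = 0 := by rw [P.map_sub]; exact sub_eq_zero.2 h
    haveI hi : IsIso (P.map (φ - ψ)) := inferInstance
    rw [h0] at hi
    exact hne ((IsZero.iff_id_eq_zero _).2 (by
      rw [← IsIso.hom_inv_id (0 : P.obj (Coh.structureModule X) ⟶ P.obj (Coh.structureModule X)), zero_comp]))
  refine ⟨fun φ ψ h => hinj ?_, fun z => ?_⟩
  · show P.map φ = P.map ψ
    rw [← hkey, ← hkey]
    exact congrArg _ h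
  · obtain ⟨φ, hφ⟩ := hsurj ((adj.homEquiv _ _).symm z)
    exact ⟨φ, (adj.homEquiv _ _).symm.injective ((hkey φ).trans hφ)⟩

theorem iso_free_of_point {M : (Spec (CommRingCat.of k)).Modules} {r : ℕ} (h : FlatMod.IsFinLocFreeOfRank r M) :
    Nonempty (M ≅ FlatMod.freeMod (Spec (CommRingCat.of k)) r) := by
  obtain ⟨U, hU, ⟨e⟩⟩ := h (IsLocalRing.closedPoint k)
  have : U = ⊤ := top_le_iff.1 fun y _ => by
    haveI : Subsingleton (Spec (CommRingCat.of k)) := inferInstanceAs (Subsingleton (PrimeSpectrum k))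
    rwa [Subsingleton.elim y (IsLocalRing.closedPoint k)]
  subst this
  obtain ⟨s, hs⟩ := H23.Frame.exists_frame e
  exact ⟨(KPn.iso_of_top_frame hs).some.symm⟩

variable (k) in
include k in
/-- A bundle whose endomorphism sheaf is free is a sum of copies of a line bundle. -/
theorem exists_line {E : X.Modules} {r : ℕ} (hr : 0 < r) (hE : FlatMod.IsFinLocFreeOfRank r E) {N : ℕ}
    (eM : ((TB).obj E).obj (SheafHomY.dual E) ≅ FlatMod.freeMod X N) :
    ∃ L : X.Modules, PicF.IsInvertible L ∧ Nonempty (E ≅ ∐ fun _ : Fin r => L) := by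
  have hElf : FlatMod.IsFinLocFree E := fun y => let ⟨U, hy, e⟩ := hE y; ⟨U, r, hy, e⟩
  obtain ⟨x, hx⟩ := exists_point k (X := X)
  haveI : IsClosedImmersion (x ≫ (X ↘ Spec (CommRingCat.of k))) := by rw [hx]; infer_instance
  haveI : IsClosedImmersion x := IsClosedImmersion.of_comp x (X ↘ Spec (CommRingCat.of k))
  let adj := Scheme.Modules.pullbackPushforwardAdjunction x
  let u := adj.unit.app (Coh.structureModule X)
  haveI : Epi u := Nakai.epi_unit x QCoh.isQCoh_structureModule
  let Q := (Scheme.Modules.pushforward x).obj ((Scheme.Modules.pullback x).obj (Coh.structureModule X))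
  -- the fibre functor on endomorphisms
  let η : E ⟶ (ten E).obj Q := (tenUnitIso E).inv ≫ (ten E).map u
  haveI : Epi η := inferInstance
  have hbij : Function.Bijective fun φ : E ⟶ E => φ ≫ η := by
    have h := bijective_hom_comp hElf eM u (bijective_comp_unit k x hx)
    refine ⟨fun φ ψ e => (cancel_mono (tenUnitIso E).inv).1 (h.1 ?_), fun z => ?_⟩
    · show (φ ≫ (tenUnitIso E).inv) ≫ (ten E).map u = (ψ ≫ (tenUnitIso E).inv) ≫ (ten E).map u
      rw [Category.assoc, Category.assoc]
      exact e
    · obtain ⟨φ, hφ⟩ := h.2 z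
      refine ⟨φ ≫ (tenUnitIso E).hom, ?_⟩
      show (φ ≫ (tenUnitIso E).hom) ≫ η = z
      rw [Category.assoc, Iso.hom_inv_id_assoc]
      exact hφ
  -- the fibre
  obtain ⟨eF⟩ := iso_free_of_point (k := k) (LineTwist.rank_pull x hE)
  let w := @asIso _ _ _ _ _ (KFlatLib.isIso_projMod_of_isClosedImmersion x
    ((Scheme.Modules.pullback x).obj (Coh.structureModule X)) E)
  let P₀ := (DCoh.tensorBi.obj ((Scheme.Modules.pullback x).obj (Coh.structureModule X)))
  let U₀ : P₀.obj (Coh.structureModule (Spec (CommRingCat.of k))) ≅ (Scheme.Modules.pullback x).obj (Coh.structureModule X) :=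
    KFlatLib.tensorUnitIso _
  let dF : Decomp (Fin r) (Coh.structureModule (Spec (CommRingCat.of k))) (FlatMod.freeMod (Spec (CommRingCat.of k)) r) :=
    Decomp.sigma _
  haveI : P₀.Additive := inferInstanceAs (DCoh.tensorBi.obj _).Additive
  haveI : (Scheme.Modules.pushforward x).Additive := inferInstance
  let d : Decomp (Fin r) Q ((ten E).obj Q) :=
    ((((dF.ofIso eF.symm).map P₀).ofIsoSummand U₀).map (Scheme.Modules.pushforward x)).ofIso w.symm
  -- lifted matrix units
  choose e he₀ using fun a b : Fin r => hbij.2 (η ≫ d.p a ≫ d.i b)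
  have he : ∀ a b, e a b ≫ η = η ≫ d.p a ≫ d.i b := he₀
  have hmul : ∀ a b c c', e a b ≫ e c c' = if b = c then e a c' else 0 := fun a b c c' => by
    refine hbij.1 ?_
    have h1 : (e a b ≫ e c c') ≫ η = η ≫ (d.p a ≫ d.i b) ≫ (d.p c ≫ d.i c') := by
      rw [Category.assoc, he, ← Category.assoc, he, Category.assoc]
    refine h1.trans ?_
    simp only [Category.assoc]
    rw [reassoc_of% (d.orth b c)]
    by_cases hbc : b = c
    · simp only [if_pos hbc, Category.id_comp]
      exact (he a c').symm
    · simp only [if_neg hbc, zero_comp, comp_zero]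
  have htot : ∑ a, e a a = 𝟙 E := hbij.1 (by
    show (∑ a, e a a) ≫ η = 𝟙 E ≫ η
    rw [Preadditive.sum_comp, Finset.sum_congr rfl fun a _ => he a a, ← Preadditive.comp_sum, d.total,
      Category.comp_id, Category.id_comp])
  obtain ⟨L, dE, -⟩ := exists_decomp_of_units ⟨0, hr⟩ e hmul htot
  have hLlf : FlatMod.IsFinLocFree L := UnivThick.isFinLocFree_of_retract (dE.i ⟨0, hr⟩) (dE.p ⟨0, hr⟩)
    (by rw [dE.orth, if_pos rfl]) hElf
  refine ⟨L, SeesawX.isInvertible_of_rank_one (ConsPropLib.isFinLocFreeOfRank_iff.2 ⟨hLlf, fun y => ?_⟩),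
    ⟨dE.iso (Decomp.sigma L)⟩⟩
  haveI := QCoh.free_stalk_of_isFinLocFree hLlf y
  haveI : Module.Finite (X.presheaf.stalk y) (L.presheaf.stalk y) :=
    QCoh.finite_stalk_of_isFT (QCoh.isQCoh_of_isFinLocFree hLlf) (QCoh.isFT_of_isFP (QCoh.isFP_of_isFinLocFree hLlf)) y
  let Φ := DerSch.stalkFunctor X y
  let dy := dE.map Φ
  let l : (E.presheaf.stalk y) ≃ₗ[X.presheaf.stalk y] (Fin r → L.presheaf.stalk y) := piEquiv dy
  have h := (l.finrank_eq).symm.trans ((ConsPropLib.isFinLocFreeOfRank_iff.1 hE).2 y)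
  rw [Module.finrank_pi_fintype, Finset.sum_const, Finset.card_univ, Fintype.card_fin, smul_eq_mul] at h
  exact (Nat.mul_eq_left hr.ne').1 h

end Groth.Agent.H28.EndTriv
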