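import Groth.Agent.H28.EndTriv.Endo
import Groth.Agent.H28.Hirz.Geom
import Groth.Agent.H23.Chern.DualPull
import Groth.Agent.S7797

/-!
# Semistable bundles on lines and the endomorphism sheaf
-/

set_option autoImplicit false
set_option linter.style.haveILetI false
set_option linter.unusedSectionVars false
set_option backward.isDefEq.respectTransparency false
set_option backward.isDefEq.respectTransparency.types false
set_option maxHeartbeats 1000000

universe u

open CategoryTheory CategoryTheory.Limits AlgebraicGeometry TopologicalSpace Opposite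

noncomputable section

namespace Groth.Agent.H28.EndTriv

open Groth.Agent Groth.Agent.H23.PicMul

variable {X Y : Scheme.{u}}

/-- The dual of a sum of copies. -/
def dualDecomp {ι : Type} [Fintype ι] [DecidableEq ι] {V M : Y.Modules} (d : Decomp ι V M) :
    Decomp ι (SheafHomY.dual V) (SheafHomY.dual M) where
  p j := (SheafHomX.homMap (d.i j)).app (Coh.structureModule Y)
  i j := (SheafHomX.homMap (d.p j)).app (Coh.structureModule Y)
  orth j l := by
    rw [← SheafHomX.homMap_comp, d.orth]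
    by_cases h : j = l
    · subst h
      rw [if_pos rfl, if_pos rfl, SheafHomX.homMap_id]
    · rw [if_neg (Ne.symm h), if_neg h, SheafHomX.homMap_zero]
  total := by
    rw [Finset.sum_congr rfl fun j _ => (SheafHomX.homMap_comp (d.p j) (d.i j) (Coh.structureModule Y)).symm,
      ← SheafHomY.homMap_sum, d.total, SheafHomX.homMap_id]

theorem decomp_end_aux {C : Type*} [Category C] [Preadditive C] (F : C ⥤ C ⥤ C) (hF : ∀ W, (F.obj W).Additive)
    (hF' : ∀ W, (F.flip.obj W).Additive) {ι : Type} [Fintype ι] [DecidableEq ι] {L L' V V' : C}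
    (d : Decomp ι L V) (d' : Decomp ι L' V') :
    Nonempty (Decomp (ι × ι) ((F.obj L).obj L') ((F.obj V).obj V')) := by
  haveI := hF V
  haveI := hF' L'
  exact ⟨(d'.map (F.obj V)).comp (d.map (F.flip.obj L'))⟩

/-- `V ⊗ V^∨` is free when `V` is a sum of copies of a line bundle. -/
theorem nonempty_end_free {r : ℕ} {L V : Y.Modules} (hL : PicF.IsInvertible L) (d : Decomp (Fin r) L V) :
    Nonempty (CohB1.tensorMod V (SheafHomY.dual V) ≅ FlatMod.freeMod Y (r * r)) := by
  obtain ⟨D⟩ := decomp_end_aux (DCoh.tensorBi (X := Y)) (fun W => inferInstanceAs (DCoh.tensorBi.obj W).Additive)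
    (fun W => inferInstanceAs ((DCoh.tensorBi (X := Y)).flip.obj W).Additive) d (dualDecomp d)
  obtain ⟨e⟩ := H23.Chern.exists_dual_inverse hL
  rw [show CohB1.tensorMod V (SheafHomY.dual V) = ((DCoh.tensorBi (X := Y)).obj V).obj (SheafHomY.dual V) from rfl]
  exact ⟨((D.ofIsoSummand e).reindex finProdFinEquiv).iso (Decomp.sigma _)⟩

/-- The pullback of the endomorphism sheaf along a map trivialising `E` up to a line bundle is free. -/
theorem nonempty_pull_end (f : Y ⟶ X) {E : X.Modules} {r : ℕ} (hE : FlatMod.IsFinLocFreeOfRank r E) {L : Y.Modules}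
    (hL : PicF.IsInvertible L) (d : Decomp (Fin r) L ((Scheme.Modules.pullback f).obj E)) :
    Nonempty ((Scheme.Modules.pullback f).obj (CohB1.tensorMod E (SheafHomY.dual E)) ≅
      FlatMod.freeMod Y (r * r)) := by
  obtain ⟨e⟩ := nonempty_end_free hL d
  obtain ⟨p⟩ := H23.PicMul.pull f E (SheafHomY.dual E)
  haveI := H23.Chern.isIso_pullDual hE f
  have e2 : PicF.cl (CohB1.tensorMod ((Scheme.Modules.pullback f).obj E) ((Scheme.Modules.pullback f).obj (SheafHomY.dual E))) =
      PicF.cl (CohB1.tensorMod ((Scheme.Modules.pullback f).obj E) (SheafHomY.dual ((Scheme.Modules.pullback f).obj E))) := by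
    rw [cl_tensor, cl_tensor]
    exact congrArg (PicF.cl ((Scheme.Modules.pullback f).obj E) * ·) (cl_eq_iff.2 ⟨asIso (H23.Chern.pullDual E f)⟩)
  obtain ⟨q⟩ := cl_eq_iff.1 e2
  exact ⟨p ≪≫ q ≪≫ e⟩

/-- The rank of the endomorphism sheaf. -/
theorem rank_end {E : X.Modules} {r : ℕ} (hE : FlatMod.IsFinLocFreeOfRank r E) :
    FlatMod.IsFinLocFreeOfRank (r * r) (CohB1.tensorMod E (SheafHomY.dual E)) := fun x => by
  obtain ⟨U, hx, ⟨e⟩⟩ := hE x
  obtain ⟨i⟩ := nonempty_pull_end U.ι hE (L := Coh.structureModule (U : Scheme.{u})) InvX.isInvertible_structureModule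
    ((Decomp.sigma _).ofIso (((Scheme.Modules.restrictFunctorIsoPullback U.ι).app E).symm ≪≫ e).symm)
  exact ⟨U, hx, ⟨(Scheme.Modules.restrictFunctorIsoPullback U.ι).app _ ≪≫ i⟩⟩

/-- A split functional on finite coproducts. -/
theorem sum_coprod {C : Type*} [Category C] [Preadditive C] [HasFiniteCoproducts C] (φ : C → ℤ) (P : C → Prop)
    (hadd : ∀ S : ShortComplex C, S.Splitting → P S.X₁ → P S.X₂ → P S.X₃ → φ S.X₂ = φ S.X₁ + φ S.X₃)
    (h0 : ∀ M : C, IsZero M → φ M = 0) (hz : ∀ M : C, IsZero M → P M)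
    (hmid : ∀ S : ShortComplex C, S.Splitting → P S.X₁ → P S.X₃ → P S.X₂) :
    ∀ (m : ℕ) (D : Fin m → C), (∀ i, P (D i)) → P (∐ D) ∧ φ (∐ D) = ∑ i, φ (D i) := by
  intro m
  induction m with
  | zero =>
    intro D _
    have h : IsZero (∐ D) := (IsZero.iff_id_eq_zero _).2 (Sigma.hom_ext _ _ fun j => j.elim0)
    exact ⟨hz _ h, by rw [h0 _ h]; simp⟩
  | succ m ih =>
    intro D hD
    let S := ShortComplex.mk (Sigma.ι D 0)
      (Sigma.desc (Fin.cases (0 : D 0 ⟶ ∐ fun i : Fin m => D i.succ) fun i => Sigma.ι (fun i : Fin m => D i.succ) i))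
      (by rw [Sigma.ι_desc]; rfl)
    let sp : S.Splitting :=
      { r := Sigma.desc (Fin.cases (𝟙 (D 0)) fun i => 0)
        s := Sigma.desc fun i : Fin m => Sigma.ι D i.succ
        f_r := by dsimp [S]; rw [Sigma.ι_desc]; rfl
        s_g := by
          refine Sigma.hom_ext _ _ fun i => ?_
          dsimp [S]
          rw [Sigma.ι_desc_assoc, Sigma.ι_desc, Category.comp_id]
          rfl
        id := by
          refine Sigma.hom_ext _ _ fun i => ?_
          dsimp [S]
          rw [Preadditive.comp_add, Category.comp_id, Sigma.ι_desc_assoc, Sigma.ι_desc_assoc]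
          induction i using Fin.cases with
          | zero => simp
          | succ i => simp }
    obtain ⟨hP', hφ'⟩ := ih (fun i => D i.succ) (fun i => hD _)
    have hP := hmid S sp (hD 0) hP'
    have h := hadd S sp (hD 0) hP hP'
    dsimp [S] at h hP
    exact ⟨hP, by rw [h, hφ', Fin.sum_univ_succ]⟩

variable {k : Type u} [Field k]

theorem euler_line (d : ℤ) :
    Curv2.euler k (CohB1.ProjSpace 1 k) (Twist.twistProjSpace 1 k d) = d + 1 := by
  rw [Hirz.euler_proj 1 one_pos, Nat.cast_one, Ring.choose_one_right]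

theorem euler_line_one : Curv2.euler k (CohB1.ProjSpace 1 k) (Coh.structureModule (CohB1.ProjSpace 1 k)) = 1 := by
  obtain ⟨e⟩ := KPn.tw_zero k 1
  rw [← CurveCohLib.euler_congr (k := k) e, euler_line, zero_add]

/-- Slope semistable bundles on the line are sums of copies of one twist. -/
theorem exists_equal_splitting {V : (CohB1.ProjSpace 1 k).Modules} {r : ℕ} (hV : FlatMod.IsFinLocFreeOfRank r V)
    (hss : ModFun.IsSlopeSemistable k (CohB1.ProjSpace 1 k) V r) :
    ∃ a : ℤ, Nonempty (V ≅ ∐ fun _ : Fin r => Twist.twistProjSpace 1 k a) := by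
  classical
  haveI : IsProper (CohB1.ProjSpace.toSpec 1 k) := PnCoh.Chow.isProper_toSpec.{u} 1 k
  obtain ⟨d, ⟨-, ⟨e⟩⟩, -⟩ := S7797.result k r V hV
  have hlf : ∀ a, FlatMod.IsFinLocFree (Twist.twistProjSpace 1 k a) := fun a => Hirz.lf_inv (KPn.inv_tw k 1 a)
  have hsum' := (sum_coprod (C := (CohB1.ProjSpace 1 k).Modules) (fun M => Curv2.euler k (CohB1.ProjSpace 1 k) M)
    (fun M => FlatMod.IsFinLocFree M)
    (fun S sp a b c => CurveCohLib.euler_additive (k := k) sp.shortExact (PushLocFree.isCoh_of_isFinLocFree a)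
      (PushLocFree.isCoh_of_isFinLocFree b) (PushLocFree.isCoh_of_isFinLocFree c))
    (fun M hM => by
      rw [Euler.euler_eq_sum k _ 0 fun i _ => Euler.subsingleton_HH_of_isZero hM i]
      simp)
    (fun M hM => KFlatLib.isFinLocFree_of_isZero hM)
    (fun S sp a c => ExtFil.isFinLocFree_mid sp.shortExact a c)
    r (fun i => Twist.twistProjSpace 1 k (d i)) (fun i => hlf _)).2
  rw [← CurveCohLib.euler_congr (k := k) e, Finset.sum_congr rfl fun i _ => euler_line (d i)] at hsum'
  have hle : ∀ i, d i * r ≤ ∑ j, d j := fun i => by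
    haveI : IsSplitMono (Sigma.ι (fun j => Twist.twistProjSpace 1 k (d j)) i) := IsSplitMono.mk'
      { retraction := Sigma.desc fun j => if h : j = i then eqToHom (by rw [h]) else 0
        id := by rw [Sigma.ι_desc, dif_pos rfl, eqToHom_refl] }
    have h := hss (Twist.twistProjSpace 1 k (d i)) 1 (Sigma.ι (fun j => Twist.twistProjSpace 1 k (d j)) i ≫ e.inv)
      inferInstance one_pos (InvEnd.isFinLocFreeOfRank_one (KPn.inv_tw k 1 (d i)))
    rw [Curv2.deg, Curv2.deg, euler_line, euler_line_one, hsum', Finset.sum_add_distrib, Finset.sum_const,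
      Finset.card_univ, Fintype.card_fin, nsmul_eq_mul] at h
    push_cast at h
    linarith
  rcases Nat.eq_zero_or_pos r with rfl | hr
  · exact ⟨0, ⟨e ≪≫ eqToIso (congrArg (fun D : Fin 0 → (CohB1.ProjSpace 1 k).Modules => ∐ D) (funext fun i => i.elim0))⟩⟩
  have heq : ∀ i, d i * r = ∑ j, d j := fun i => by
    by_contra hne
    have := Finset.sum_lt_sum (s := Finset.univ) (f := fun l => d l * r) (g := fun _ => ∑ j, d j)
      (fun l _ => hle l) ⟨i, Finset.mem_univ i, lt_of_le_of_ne (hle i) hne⟩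
    rw [← Finset.sum_mul, Finset.sum_const, Finset.card_univ, Fintype.card_fin, nsmul_eq_mul, mul_comm] at this
    exact lt_irrefl _ this
  refine ⟨d ⟨0, hr⟩, ⟨e ≪≫ eqToIso (congrArg (fun D : Fin r → (CohB1.ProjSpace 1 k).Modules => ∐ D) (funext fun i => ?_))⟩⟩
  have h := (heq i).trans (heq ⟨0, hr⟩).symm
  rw [mul_right_cancel₀ (show (r : ℤ) ≠ 0 by exact_mod_cast hr.ne') h]

end Groth.Agent.H28.EndTriv
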